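import Cfsg.Agent.Lib.Helper56.ONP.ChkP0
import Cfsg.Agent.Lib.Helper56.ONP.ChkP1
import Cfsg.Agent.Lib.Helper56.ONP.ChkP2
import Cfsg.Agent.Lib.Helper56.ONP.ChkP3
import Cfsg.Agent.Lib.Helper56.ONP.ChkP4
import Cfsg.Agent.Lib.Helper56.ONP.ChkP5
import Cfsg.Agent.Lib.Helper56.ONP.ChkP6
import Cfsg.Agent.Lib.Helper56.ONP.ChkP7
import Cfsg.Agent.Lib.Helper56.ONP.ChkP8
import Cfsg.Agent.Lib.Helper56.ONP.ChkP9
import Cfsg.Agent.Lib.Helper56.ONP.ChkP10
import Cfsg.Agent.Lib.Helper56.ONP.ChkP11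
import Cfsg.Agent.Lib.Helper56.ONP.ChkP12
import Cfsg.Agent.Lib.Helper56.ONP.ChkP13
import Cfsg.Agent.Lib.Helper56.ONP.ChkP14
import Cfsg.Agent.Lib.Helper56.ONP.ChkP15
import Cfsg.Agent.Lib.Helper56.ONP.ChkP16
import Cfsg.Agent.Lib.Helper56.ONP.ChkP17
import Cfsg.Agent.Lib.Helper56.ONP.ChkP18
import Cfsg.Agent.Lib.Helper56.ONP.ChkP19
import Cfsg.Agent.Lib.Helper56.ONP.ChkP20
import Cfsg.Agent.Lib.Helper56.ONP.ChkP21
import Cfsg.Agent.Lib.Helper56.ONP.ChkP22
import Cfsg.Agent.Lib.Helper56.ONP.ChkP23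
import Cfsg.Agent.Lib.Helper56.ONP.ChkP24
import Cfsg.Agent.Lib.Helper56.ONP.ChkP25
import Cfsg.Agent.Lib.Helper56.ONP.ChkP26
import Cfsg.Agent.Lib.Helper56.ONP.ChkP27
import Cfsg.Agent.Lib.Helper56.ONP.ChkP28
import Cfsg.Agent.Lib.Helper56.ONP.ChkP29
import Cfsg.Agent.Lib.Helper56.ONP.ChkP30
import Cfsg.Agent.Lib.Helper56.ONP.ChkP31
import Cfsg.Agent.Lib.Helper56.ONP.ChkP32
import Cfsg.Agent.Lib.Helper56.ONP.ChkP33
import Cfsg.Agent.Lib.Helper56.ONP.ChkP34
import Cfsg.Agent.Lib.Helper56.ONP.ChkP35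
import Cfsg.Agent.Lib.Helper56.ONP.ChkP36
import Cfsg.Agent.Lib.Helper56.ONP.ChkP37
import Cfsg.Agent.Lib.Helper56.ONP.ChkP38
import Cfsg.Agent.Lib.Helper56.ONP.ChkP39
import Cfsg.Agent.Lib.Helper56.ONP.ChkP40
import Cfsg.Agent.Lib.Helper56.ONP.ChkP41
import Cfsg.Agent.Lib.Helper56.ONP.ChkP42
import Cfsg.Agent.Lib.Helper56.ONP.ChkP43
import Cfsg.Agent.Lib.Helper56.ONP.ChkP44
import Cfsg.Agent.Lib.Helper56.ONP.ChkP45
import Cfsg.Agent.Lib.Helper56.ONP.ChkP46
import Cfsg.Agent.Lib.Helper56.ONP.ChkP47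
import Cfsg.Agent.Lib.Helper56.ONP.ChkP48
import Cfsg.Agent.Lib.Helper56.ONP.ChkP49
import Cfsg.Agent.Lib.Helper56.ONP.ChkP50
import Cfsg.Agent.Lib.Helper56.ONP.ChkP51
import Cfsg.Agent.Lib.Helper56.ONP.ChkP52
import Cfsg.Agent.Lib.Helper56.ONP.ChkP53
import Cfsg.Agent.Lib.Helper56.ONP.ChkP54
import Cfsg.Agent.Lib.Helper56.ONP.ChkP55
import Cfsg.Agent.Lib.Helper56.ONP.ChkP56
import Cfsg.Agent.Lib.Helper56.ONP.ChkP57
import Cfsg.Agent.Lib.Helper56.ONP.ChkP58
import Cfsg.Agent.Lib.Helper56.ONP.ChkP59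
import Cfsg.Agent.Lib.Helper56.ONP.ChkP60
import Cfsg.Agent.Lib.Helper56.ONP.ChkP61
import Cfsg.Agent.Lib.Helper56.ONP.ChkP62
import Cfsg.Agent.Lib.Helper56.ONP.ChkP63
import Cfsg.Agent.Lib.Helper56.ONP.ChkP64
import Cfsg.Agent.Lib.Helper56.ONP.ChkP65
import Cfsg.Agent.Lib.Helper56.ONP.ChkP66
import Cfsg.Agent.Lib.Helper56.ONP.ChkP67
import Cfsg.Agent.Lib.Helper56.ONP.ChkP68
import Cfsg.Agent.Lib.Helper56.ONP.ChkP69
import Cfsg.Agent.Lib.Helper56.ONP.ChkP70
import Cfsg.Agent.Lib.Helper56.ONP.ChkP71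
import Cfsg.Agent.Lib.Helper56.ONP.ChkP72
import Cfsg.Agent.Lib.Helper56.ONP.ChkP73
import Cfsg.Agent.Lib.Helper56.ONP.ChkP74
import Cfsg.Agent.Lib.Helper56.ONP.ChkP75
import Cfsg.Agent.Lib.Helper56.ONP.ChkP76
import Cfsg.Agent.Lib.Helper56.ONP.ChkP77
import Cfsg.Agent.Lib.Helper56.ONP.ChkP78
import Cfsg.Agent.Lib.Helper56.ONP.ChkP79
import Cfsg.Agent.Lib.Helper56.ONP.ChkP80
import Cfsg.Agent.Lib.Helper56.ONP.ChkP81
import Cfsg.Agent.Lib.Helper56.ONP.ChkP82
import Cfsg.Agent.Lib.Helper56.ONP.ChkP83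
import Cfsg.Agent.Lib.Helper56.ONP.ChkP84
import Cfsg.Agent.Lib.Helper56.ONP.ChkP85
import Cfsg.Agent.Lib.Helper56.ONP.ChkP86
import Cfsg.Agent.Lib.Helper56.ONP.ChkP87
import Cfsg.Agent.Lib.Helper56.ONP.ChkP88
import Cfsg.Agent.Lib.Helper56.ONP.ChkP89
import Cfsg.Agent.Lib.Helper56.ONP.ChkP90
import Cfsg.Agent.Lib.Helper56.ONP.ChkP91
import Cfsg.Agent.Lib.Helper56.ONP.ChkP92
import Cfsg.Agent.Lib.Helper56.ONP.ChkP93
import Cfsg.Agent.Lib.Helper56.ONP.ChkP94
import Cfsg.Agent.Lib.Helper56.ONP.ChkP95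
import Cfsg.Agent.Lib.Helper56.ONP.ChkP96
import Cfsg.Agent.Lib.Helper56.ONP.ChkP97
import Cfsg.Agent.Lib.Helper56.ONP.ChkP98
import Cfsg.Agent.Lib.Helper56.ONP.ChkP99
import Cfsg.Agent.Lib.Helper56.ONP.ChkP100
import Cfsg.Agent.Lib.Helper56.ONP.ChkP101
import Cfsg.Agent.Lib.Helper56.ONP.ChkF0
import Cfsg.Agent.Lib.Helper56.ONP.ChkF1
import Cfsg.Agent.Lib.Helper56.ONP.ChkF2
import Cfsg.Agent.Lib.Helper56.ONP.ChkF3
import Cfsg.Agent.Lib.Helper56.ONP.ChkF4
import Cfsg.Agent.Lib.Helper56.ONP.ChkF5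
import Cfsg.Agent.Lib.Helper56.ONP.ChkF6
import Cfsg.Agent.Lib.Helper56.ONP.ChkF7
import Cfsg.Agent.Lib.Helper56.ONP.ChkF8
import Cfsg.Agent.Lib.Helper56.ONP.ChkF9
import Cfsg.Agent.Lib.Helper56.ONP.ChkF10
import Cfsg.Agent.Lib.Helper56.ONP.ChkF11
import Cfsg.Agent.Lib.Helper56.ONP.ChkF12
import Cfsg.Agent.Lib.Helper56.ONP.ChkF13
import Cfsg.Agent.Lib.Helper56.ONP.ChkF14
import Cfsg.Agent.Lib.Helper56.ONP.ChkF15
import Cfsg.Agent.Lib.Helper56.ONP.ChkF16
import Cfsg.Agent.Lib.Helper56.ONP.ChkF17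
import Cfsg.Agent.Lib.Helper56.ONP.ChkF18
import Cfsg.Agent.Lib.Helper56.ONP.ChkF19
import Cfsg.Agent.Lib.Helper56.ONP.ChkF20
import Cfsg.Agent.Lib.Helper56.ONP.ChkF21
import Cfsg.Agent.Lib.Helper56.ONP.ChkF22
import Cfsg.Agent.Lib.Helper56.ONP.ChkF23
import Cfsg.Agent.Lib.Helper56.ONP.ChkF24
import Cfsg.Agent.Lib.Helper56.ONP.ChkF25
import Cfsg.Agent.Lib.Helper56.ONP.ChkC0
import Cfsg.Agent.Lib.Helper56.ONP.ChkC1
import Cfsg.Agent.Lib.Helper56.ONP.ChkC2
import Cfsg.Agent.Lib.Helper56.ONP.ChkC3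
import Cfsg.Agent.Lib.Helper56.ONP.ChkC4
import Cfsg.Agent.Lib.Helper56.ONP.ChkC5
import Cfsg.Agent.Lib.Helper56.ONP.ChkC6
import Cfsg.Agent.Lib.Helper56.ONP.ChkC7
import Cfsg.Agent.Lib.Helper56.ONP.ChkC8
import Cfsg.Agent.Lib.Helper56.ONP.ChkC9
import Cfsg.Agent.Lib.Helper56.ONP.ChkC10
import Cfsg.Agent.Lib.Helper56.ONP.ChkC11
import Cfsg.Agent.Lib.Helper56.ONP.ChkC12
import Cfsg.Agent.Lib.Helper56.ONP.ChkC13
import Cfsg.Agent.Lib.Helper56.ONP.ChkC14
import Cfsg.Agent.Lib.Helper56.ONP.ChkC15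
import Cfsg.Agent.Lib.Helper56.ONP.ChkC16
import Cfsg.Agent.Lib.Helper56.ONP.ChkC17
import Cfsg.Agent.Lib.Helper56.ONP.ChkC18
import Cfsg.Agent.Lib.Helper56.ONP.ChkC19
import Cfsg.Agent.Lib.Helper56.ONP.ChkC20
import Cfsg.Agent.Lib.Helper56.ONP.ChkC21
import Cfsg.Agent.Lib.Helper56.ONP.ChkC22
import Cfsg.Agent.Lib.Helper56.ONP.ChkC23
import Cfsg.Agent.Lib.Helper56.ONP.ChkC24
import Cfsg.Agent.Lib.Helper56.ONP.ChkC25

set_option autoImplicit false
set_option linter.unusedVariables false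

namespace Cfsg.Agent.Lib.Helper56.ONP

open Cfsg.Agent.Lib.Helper28.TC

noncomputable section

def NNpad : ℕ := 26624
theorem permP_all : ∀ i, i < nn → permP i = true := by
  refine all_of_blocks nn permP 8 102 (by decide) ?_
  intro k hk
  interval_cases k
  · exact permP_blk0
  · exact permP_blk1
  · exact permP_blk2
  · exact permP_blk3
  · exact permP_blk4
  · exact permP_blk5
  · exact permP_blk6
  · exact permP_blk7
  · exact permP_blk8
  · exact permP_blk9
  · exact permP_blk10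
  · exact permP_blk11
  · exact permP_blk12
  · exact permP_blk13
  · exact permP_blk14
  · exact permP_blk15
  · exact permP_blk16
  · exact permP_blk17
  · exact permP_blk18
  · exact permP_blk19
  · exact permP_blk20
  · exact permP_blk21
  · exact permP_blk22
  · exact permP_blk23
  · exact permP_blk24
  · exact permP_blk25
  · exact permP_blk26
  · exact permP_blk27
  · exact permP_blk28
  · exact permP_blk29
  · exact permP_blk30
  · exact permP_blk31
  · exact permP_blk32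
  · exact permP_blk33
  · exact permP_blk34
  · exact permP_blk35
  · exact permP_blk36
  · exact permP_blk37
  · exact permP_blk38
  · exact permP_blk39
  · exact permP_blk40
  · exact permP_blk41
  · exact permP_blk42
  · exact permP_blk43
  · exact permP_blk44
  · exact permP_blk45
  · exact permP_blk46
  · exact permP_blk47
  · exact permP_blk48
  · exact permP_blk49
  · exact permP_blk50
  · exact permP_blk51
  · exact permP_blk52
  · exact permP_blk53
  · exact permP_blk54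
  · exact permP_blk55
  · exact permP_blk56
  · exact permP_blk57
  · exact permP_blk58
  · exact permP_blk59
  · exact permP_blk60
  · exact permP_blk61
  · exact permP_blk62
  · exact permP_blk63
  · exact permP_blk64
  · exact permP_blk65
  · exact permP_blk66
  · exact permP_blk67
  · exact permP_blk68
  · exact permP_blk69
  · exact permP_blk70
  · exact permP_blk71
  · exact permP_blk72
  · exact permP_blk73
  · exact permP_blk74
  · exact permP_blk75
  · exact permP_blk76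
  · exact permP_blk77
  · exact permP_blk78
  · exact permP_blk79
  · exact permP_blk80
  · exact permP_blk81
  · exact permP_blk82
  · exact permP_blk83
  · exact permP_blk84
  · exact permP_blk85
  · exact permP_blk86
  · exact permP_blk87
  · exact permP_blk88
  · exact permP_blk89
  · exact permP_blk90
  · exact permP_blk91
  · exact permP_blk92
  · exact permP_blk93
  · exact permP_blk94
  · exact permP_blk95
  · exact permP_blk96
  · exact permP_blk97
  · exact permP_blk98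
  · exact permP_blk99
  · exact permP_blk100
  · exact permP_blk101

theorem factP_all : ∀ i, i < NNpad → factP i = true := by
  refine allBlocks_spec factP 10 26 ?_
  intro k hk
  interval_cases k
  · exact factP_blk0
  · exact factP_blk1
  · exact factP_blk2
  · exact factP_blk3
  · exact factP_blk4
  · exact factP_blk5
  · exact factP_blk6
  · exact factP_blk7
  · exact factP_blk8
  · exact factP_blk9
  · exact factP_blk10
  · exact factP_blk11
  · exact factP_blk12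
  · exact factP_blk13
  · exact factP_blk14
  · exact factP_blk15
  · exact factP_blk16
  · exact factP_blk17
  · exact factP_blk18
  · exact factP_blk19
  · exact factP_blk20
  · exact factP_blk21
  · exact factP_blk22
  · exact factP_blk23
  · exact factP_blk24
  · exact factP_blk25

theorem closedP_all : ∀ i, i < nn → closedP i = true := by
  refine all_of_blocks nn closedP 10 26 (by decide) ?_
  intro k hk
  interval_cases k
  · exact closedP_blk0
  · exact closedP_blk1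
  · exact closedP_blk2
  · exact closedP_blk3
  · exact closedP_blk4
  · exact closedP_blk5
  · exact closedP_blk6
  · exact closedP_blk7
  · exact closedP_blk8
  · exact closedP_blk9
  · exact closedP_blk10
  · exact closedP_blk11
  · exact closedP_blk12
  · exact closedP_blk13
  · exact closedP_blk14
  · exact closedP_blk15
  · exact closedP_blk16
  · exact closedP_blk17
  · exact closedP_blk18
  · exact closedP_blk19
  · exact closedP_blk20
  · exact closedP_blk21
  · exact closedP_blk22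
  · exact closedP_blk23
  · exact closedP_blk24
  · exact closedP_blk25

theorem hotA_lt : hotA < 2 ^ (33 * 26624) := by decide +kernel
theorem hotE0_lt : hotE0 < 2 ^ (33 * 26624) := by decide +kernel
theorem hotE1_lt : hotE1 < 2 ^ (33 * 26624) := by decide +kernel
theorem hotE2_lt : hotE2 < 2 ^ (33 * 26624) := by decide +kernel
theorem hotE3_lt : hotE3 < 2 ^ (33 * 26624) := by decide +kernel
theorem hotE4_lt : hotE4 < 2 ^ (33 * 26624) := by decide +kernel
theorem hotE5_lt : hotE5 < 2 ^ (33 * 26624) := by decide +kernel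
theorem subFix : allList (fun w => Nat.beq (act tf w 0) 0) subWords = true := by decide +kernel

end

end Cfsg.Agent.Lib.Helper56.ONP
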